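import Cfsg.Agent.H47.FixedBruhat

/-!
Normalisers of the unipotent and diagonal subgroups in a twisted group given by split root data.
-/

set_option autoImplicit false

namespace Cfsg.Agent.H70.F4Out

open Cfsg.Agent.H47

variable {Γ ι : Type*} [Group Γ] (T : TwistData Γ ι)

theorem uh_unique {u u' h h' : Γ} (hu : u ∈ T.U1) (hu' : u' ∈ T.U1) (hh : h ∈ T.H0) (hh' : h' ∈ T.H0)
    (e : u * h = u' * h') : u = u' ∧ h = h' := by
  have h1 := T.UH_inf_V _ (T.U1_le_U (mul_mem (inv_mem hu') hu)) _ (T.H0_le_H (mul_mem hh (inv_mem hh')))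
    (by rw [show u'⁻¹ * u * (h * h'⁻¹) = u'⁻¹ * (u * h) * h'⁻¹ by group, e,
      show u'⁻¹ * (u' * h') * h'⁻¹ = 1 by group]; exact one_mem _)
  exact ⟨(inv_mul_eq_one.1 h1.1).symm, mul_inv_eq_one.1 h1.2⟩

theorem bmv_unique {m b b' v v' : Γ} (hb : b ∈ T.B1) (hb' : b' ∈ T.B1)
    (hv : v ∈ T.U1w m) (hv' : v' ∈ T.U1w m) (e : b * m * v = b' * m * v') : b = b' ∧ v = v' := by
  have hV : b'⁻¹ * b ∈ T.V := by
    have := (T.mem_U1w.mp (mul_mem hv' (inv_mem hv))).2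
    rw [show v' * v⁻¹ = m⁻¹ * b'⁻¹ * (b * m * v) * v⁻¹ by rw [e]; group] at this
    convert this using 1
    group
  obtain ⟨u, hu, h, hh, e2⟩ := T.B1_eq (mul_mem (inv_mem hb') hb)
  obtain ⟨h1, h2⟩ := T.UH_inf_V u (T.U1_le_U hu) h (T.H0_le_H hh) (e2 ▸ hV)
  rw [h1, h2, mul_one, inv_mul_eq_one] at e2
  subst e2
  exact ⟨rfl, mul_left_cancel e⟩

theorem desc_of_not_mem {m : Γ} (hm : m ∈ T.N0) (hmH : m ∉ T.H0) : ∃ j, T.Desc m j := by
  by_contra hd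
  exact hmH (T.N0_inf_H' hm (T.desc_exists m hm (not_exists.mp hd)))

variable (hne : ∀ j, ∃ x ∈ T.X1 j, x ≠ 1)

include hne in
theorem desc_nS (j : ι) : T.Desc (T.nS j) j := by
  by_contra hd
  obtain ⟨x, hx, hx1⟩ := hne j
  exact hx1 (conj_eq_one_iff.1 (T.U_inf_V (T.not_desc_U _ (T.nS_mem_N0 j) j hd x hx.1) (T.X_conj_V j x hx.1)))

include hne in
/-- The part of the unipotent group sent to the opposite side by a simple representative. -/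
theorem U1w_nS (j : ι) : T.U1w (T.nS j) = T.X1 j := by
  refine le_antisymm (fun u hu => ?_) fun x hx =>
    T.mem_U1w.mpr ⟨⟨T.X_le_U j hx.1, hx.2⟩, T.X_conj_V j x hx.1⟩
  obtain ⟨x, hx, v, hv, rfl⟩ := T.U1w_split (T.nS_mem_N0 j) (desc_nS T hne j) hu
  rw [mul_inv_cancel, T.U1w_H (one_mem _), Subgroup.mem_bot] at hv
  simpa [hv] using hx

theorem H0_conj_U1w {m t u : Γ} (hm : m ∈ T.N0) (ht : t ∈ T.H0) (hu : u ∈ T.U1w m) :
    t * u * t⁻¹ ∈ T.U1w m := by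
  obtain ⟨h1, h2⟩ := T.mem_U1w.mp hu
  refine T.mem_U1w.mpr ⟨T.H0_conj_U1 ht h1, ?_⟩
  have := T.H_conj_V _ (T.H0_le_H (T.H0_normal hm ht)) _ h2
  convert this using 1
  group

include hne in
theorem mem_H0_of_conj_U1 {m : Γ} (hm : m ∈ T.N0) (hU : ∀ u ∈ T.U1, m * u * m⁻¹ ∈ T.U1) : m ∈ T.H0 := by
  by_contra hmH
  obtain ⟨j, hd⟩ := desc_of_not_mem T hm hmH
  obtain ⟨x, hx, hx1⟩ := hne j
  exact hx1 (conj_eq_one_iff.1 (T.U_inf_V (hU x ⟨T.X_le_U j hx.1, hx.2⟩).1 (T.desc_V m hm j hd x hx.1)))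

theorem exists_umv {g : Γ} (hg : g ∈ T.G1) :
    ∃ u ∈ T.U1, ∃ m ∈ T.N0, ∃ v ∈ T.U1w m, g = u * m * v := by
  obtain ⟨m, hm, hc⟩ := T.exists_cell hg
  rw [T.cell_eq hm] at hc
  obtain ⟨b, hb, v, hv, rfl⟩ := hc
  obtain ⟨u, hu, h, hh, rfl⟩ := T.B1_eq hb
  refine ⟨u, hu, h * m, mul_mem (T.H0_le_N0 hh) hm, v, T.mem_U1w.mpr ⟨hv.1, ?_⟩, by group⟩
  have := T.H_conj_V _ (T.H0_le_H hh) _ (T.mem_U1w.mp hv).2
  convert this using 1
  group

include hne in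
theorem mem_B1_of_conj_U1 {g : Γ} (hg : g ∈ T.G1) (hU : ∀ u ∈ T.U1, g * u * g⁻¹ ∈ T.U1) : g ∈ T.B1 := by
  obtain ⟨u, hu, m, hm, v, hv, rfl⟩ := exists_umv T hg
  have hm0 : m ∈ T.H0 := mem_H0_of_conj_U1 T hne hm fun x hx => by
    have := mul_mem (mul_mem (inv_mem hu) (hU _ (mul_mem (mul_mem (inv_mem hv.1) hx) hv.1))) hu
    convert this using 1
    group
  exact mul_mem (mul_mem ((le_sup_left : T.U1 ≤ T.B1) hu) ((le_sup_right : T.H0 ≤ T.B1) hm0))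
    ((le_sup_left : T.U1 ≤ T.B1) hv.1)

variable (hfree : ∀ j, ∀ x ∈ T.X1 j, (∀ h ∈ T.H0, h * x = x * h) → x = 1)

include hne hfree in
/-- The diagonal group fixes no non-trivial unipotent element. -/
theorem free_U1 {u : Γ} (hu : u ∈ T.U1) (hc : ∀ h ∈ T.H0, h * u = u * h) : u = 1 := by
  obtain ⟨m₀, hm₀, htop⟩ := T.exists_top
  suffices ∀ k m, m ∈ T.N0 → T.len m = k → ∀ u ∈ T.U1w m, (∀ h ∈ T.H0, h * u = u * h) → u = 1 from
    this _ m₀ hm₀ rfl u (htop ▸ hu) hc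
  intro k
  induction k using Nat.strong_induction_on with
  | _ k ih =>
    intro m hm hk u hu hc
    by_cases hd : ∃ j, T.Desc m j
    · obtain ⟨j, hd⟩ := hd
      obtain ⟨x, hx, v, hv, rfl⟩ := T.U1w_split hm hd hu
      have hm' : m * (T.nS j)⁻¹ ∈ T.N0 := mul_mem hm (inv_mem (T.nS_mem_N0 j))
      have key : ∀ t ∈ T.H0, t * x * t⁻¹ = x ∧ T.nS j * t * (T.nS j)⁻¹ * v * (T.nS j * t * (T.nS j)⁻¹)⁻¹ = v := by
        intro t ht
        set s := T.nS j * t * (T.nS j)⁻¹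
        have hs : s ∈ T.H0 := T.H0_conj j t ht
        have hx' : t * x * t⁻¹ ∈ T.X1 j := by
          rw [← U1w_nS T hne j] at hx ⊢
          exact H0_conj_U1w T (T.nS_mem_N0 j) ht hx
        have e : (t * x * t⁻¹) * ((T.nS j)⁻¹ * (s * v * s⁻¹) * T.nS j) = x * ((T.nS j)⁻¹ * v * T.nS j) :=
          calc _ = t * (x * ((T.nS j)⁻¹ * v * T.nS j)) * t⁻¹ := by simp only [s]; group
            _ = _ := by rw [hc t ht, mul_inv_cancel_right]
        have e2 : T.nS j * (x⁻¹ * (t * x * t⁻¹)) * (T.nS j)⁻¹ = v * (s * v * s⁻¹)⁻¹ := by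
          rw [eq_mul_inv_iff_mul_eq]
          calc T.nS j * (x⁻¹ * (t * x * t⁻¹)) * (T.nS j)⁻¹ * (s * v * s⁻¹)
              = T.nS j * x⁻¹ * ((t * x * t⁻¹) * ((T.nS j)⁻¹ * (s * v * s⁻¹) * T.nS j)) * (T.nS j)⁻¹ := by group
            _ = v := by rw [e]; group
        have h1 : v * (s * v * s⁻¹)⁻¹ = 1 := T.U_inf_V
          (mul_mem hv.1.1 (inv_mem (T.H_conj_U s (T.H0_le_H hs) v hv.1.1)))
          (e2 ▸ T.X_conj_V j _ (mul_mem (inv_mem hx.1) hx'.1))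
        rw [h1, conj_eq_one_iff, inv_mul_eq_one] at e2
        exact ⟨e2.symm, (mul_inv_eq_one.1 h1).symm⟩
      have hx1 : x = 1 := hfree j x hx fun t ht => mul_inv_eq_iff_eq_mul.1 (key t ht).1
      have hv1 : v = 1 := ih _ (hk ▸ (T.desc_step m hm j hd).1) _ hm' rfl v hv fun s hs => by
        have := (key _ (T.H0_conj' j hs)).2
        rw [show T.nS j * ((T.nS j)⁻¹ * s * T.nS j) * (T.nS j)⁻¹ = s by group] at this
        exact mul_inv_eq_iff_eq_mul.1 this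
      simp [hx1, hv1]
    · rw [T.U1w_H (T.desc_exists m hm (not_exists.mp hd))] at hu
      exact Subgroup.mem_bot.1 hu

include hne hfree in
theorem mem_N0_of_conj_H0 {g : Γ} (hg : g ∈ T.G1) (hH : ∀ h ∈ T.H0, g * h * g⁻¹ ∈ T.H0) : g ∈ T.N0 := by
  obtain ⟨u, hu, m, hm, v, hv, rfl⟩ := exists_umv T hg
  have hU : T.U1 ≤ T.B1 := le_sup_left
  have hB : T.H0 ≤ T.B1 := le_sup_right
  have key : ∀ t ∈ T.H0, t⁻¹ * v * t = v ∧ m * t * m⁻¹ * u = u * (m * t * m⁻¹) := by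
    intro t ht
    set t' := u * m * v * t * (u * m * v)⁻¹
    have ht' : t' ∈ T.H0 := hH t ht
    have hmt := T.H0_normal hm ht
    have e : u * (m * t * m⁻¹) * m * (t⁻¹ * v * t) = (t' * u * t'⁻¹) * t' * m * v := by
      simp only [t']; group
    have hv' : t⁻¹ * v * t ∈ T.U1w m := by simpa using H0_conj_U1w T hm (inv_mem ht) hv
    obtain ⟨e1, e2⟩ := bmv_unique T (mul_mem (hU hu) (hB hmt))
      (mul_mem (hU (T.H0_conj_U1 ht' hu)) (hB ht')) hv' hv e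
    obtain ⟨e3, e4⟩ := uh_unique T hu (T.H0_conj_U1 ht' hu) hmt ht' e1
    refine ⟨e2, ?_⟩
    rw [e4]
    exact mul_inv_eq_iff_eq_mul.1 e3.symm
  have hv1 : v = 1 := free_U1 T hne hfree hv.1 fun h hh => by
    have := (key _ (inv_mem hh)).1
    rw [inv_inv] at this
    exact mul_inv_eq_iff_eq_mul.1 this
  have hu1 : u = 1 := free_U1 T hne hfree hu fun h hh => by
    have ht : m⁻¹ * h * m ∈ T.H0 := by simpa using T.H0_normal (inv_mem hm) hh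
    simpa [mul_assoc] using (key _ ht).2
  simpa [hv1, hu1] using hm

include hne in
/-- The simple class groups in terms of the unipotent group and representatives alone. -/
theorem mem_X1_iff {m₀ : Γ} (hm₀ : m₀ ∈ T.N0) (htop : T.U1w m₀ = T.U1) (j : ι) {u : Γ} :
    u ∈ T.X1 j ↔ u ∈ T.U1 ∧ m₀⁻¹ * T.nS j * u * (m₀⁻¹ * T.nS j)⁻¹ ∈ T.U1 := by
  have hV : ∀ w ∈ T.U1, m₀ * w * m₀⁻¹ ∈ T.V := fun w hw => (T.mem_U1w.mp (htop ▸ hw)).2
  have hm : m₀⁻¹ * T.nS j ∈ T.N0 := mul_mem (inv_mem hm₀) (T.nS_mem_N0 j)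
  constructor
  · intro hx
    have hnd : ¬ T.Desc (m₀⁻¹ * T.nS j) j := by
      intro hd
      have h2 := (T.desc_step _ hm j hd).2
      rw [mul_inv_cancel_right] at h2
      obtain ⟨y, hy, hy1⟩ := hne j
      have hyU : m₀⁻¹ * y * m₀⁻¹⁻¹ ∈ T.U1 :=
        T.U1_mk (T.not_desc_U _ (inv_mem hm₀) j h2 y hy.1)
          (mul_mem (mul_mem (T.N0_le_fixed (inv_mem hm₀)) hy.2) (inv_mem (T.N0_le_fixed (inv_mem hm₀))))
      have hyV := hV _ hyU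
      rw [show m₀ * (m₀⁻¹ * y * m₀⁻¹⁻¹) * m₀⁻¹ = y by group] at hyV
      exact hy1 (T.U_inf_V (T.X_le_U j hy.1) hyV)
    exact ⟨⟨T.X_le_U j hx.1, hx.2⟩, T.U1_mk (T.not_desc_U _ hm j hnd u hx.1)
      (mul_mem (mul_mem (T.N0_le_fixed hm) hx.2) (inv_mem (T.N0_le_fixed hm)))⟩
  · rintro ⟨hu, h⟩
    rw [← U1w_nS T hne j]
    refine T.mem_U1w.mpr ⟨hu, ?_⟩
    have := hV _ h
    convert this using 1
    group

end Cfsg.Agent.H70.F4Out
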